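import Mathlib

/-!
A semisimple map commuting with a nonzero nilpotent map has small invariant subspaces.
-/

set_option autoImplicit false

namespace CfsgLib.PSLnCommute

variable {F V : Type*} [Field F] [Fintype F] [AddCommGroup V] [Module F V] [FiniteDimensional F V]

theorem dvd_of_free {r : ℕ} [Fact r.Prime] (f : V →ₗ[F] V) (hf : ∀ v, f^[r] v = v) (U : Submodule F V)
    (hU : ∀ u ∈ U, f u ∈ U) (hfree : ∀ u ∈ U, f u = u → u = 0) :
    r ∣ Fintype.card F ^ Module.finrank F U - 1 := by
  classical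
  haveI : Finite V := Module.finite_of_finite F
  haveI := Fintype.ofFinite U
  let g : U → U := fun u => ⟨f u, hU u u.2⟩
  have hit : ∀ (k : ℕ) (u : U), ((g^[k] u : U) : V) = f^[k] u := by
    intro k
    induction k with
    | zero => intro u; rfl
    | succ k ih => intro u; rw [Function.iterate_succ_apply', Function.iterate_succ_apply', ← ih]
  have hg : ∀ u, g^[r] u = u := fun u => Subtype.ext (by rw [hit, hf])
  have hinj : Function.Injective g := by
    intro a b hab
    have hr : r = r - 1 + 1 := (Nat.succ_pred_eq_of_pos (Fact.out : r.Prime).pos).symm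
    rw [← hg a, ← hg b, hr, Function.iterate_succ_apply, Function.iterate_succ_apply, hab]
  let σ : Equiv.Perm U := Equiv.ofBijective g (Finite.injective_iff_bijective.mp hinj)
  have hσ : σ ^ r ^ 1 = 1 := by
    ext1 u
    rw [pow_one, Equiv.Perm.coe_pow, Equiv.Perm.one_apply]
    exact hg u
  have h := Equiv.Perm.card_compl_support_modEq hσ
  have e : σ.supportᶜ = {0} := by
    ext u
    simp only [Finset.mem_compl, Equiv.Perm.mem_support, not_not, Finset.mem_singleton]
    constructor
    · intro hu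
      exact Subtype.ext (hfree u u.2 (congrArg Subtype.val hu))
    · rintro rfl
      exact Subtype.ext (map_zero f)
  rw [e, Finset.card_singleton, ← Nat.card_eq_fintype_card, Module.natCard_eq_pow_finrank (K := F),
    Nat.card_eq_fintype_card] at h
  exact (Nat.modEq_iff_dvd' (Nat.one_le_pow _ _ Fintype.card_pos)).mp h

theorem nilpotent_eq_zero_of_large {r : ℕ} [Fact r.Prime] {n : ℕ} (hn : Module.finrank F V = n) (h3 : 3 ≤ n)
    (hchar : (r : F) ≠ 0) (hnd : ∀ k, 1 ≤ k → k ≤ n - 2 → ¬ r ∣ Fintype.card F ^ k - 1)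
    (f g : Module.End F V) (hf : f ^ r = 1) (hf1 : f ≠ 1) (hfg : Commute f g) (hg : IsNilpotent g) :
    g = 0 := by
  have hit : ∀ v, (⇑f)^[r] v = v := fun v => by rw [← Module.End.pow_apply, hf]; rfl
  set f1 : Module.End F V := f - 1 with hf1def
  have hd : ∀ v, f1 v = f v - v := fun v => rfl
  have hcomm : ∀ v, g (f v) = f (g v) := fun v =>
    (LinearMap.congr_fun hfg.eq v).symm
  have hdis : ∀ v ∈ LinearMap.range f1, f v = v → v = 0 := by
    rintro _ ⟨w, rfl⟩ hfix
    have hk : ∀ k : ℕ, (⇑f)^[k] w = w + k • f1 w := by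
      intro k
      induction k with
      | zero => simp
      | succ k ih =>
        rw [Function.iterate_succ_apply', ih, map_add, map_nsmul, hfix, succ_nsmul,
          show f w = w + f1 w by rw [hd]; abel]
        abel
    have h := hk r
    rw [hit, left_eq_add, ← Nat.cast_smul_eq_nsmul F] at h
    exact (smul_eq_zero.mp h).resolve_left hchar
  have hfree : ∀ U : Submodule F V, U ≤ LinearMap.range f1 → (∀ u ∈ U, f u ∈ U) → U ≠ ⊥ →
      n - 1 ≤ Module.finrank F U := by
    intro U hU hinv hne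
    by_contra hlt
    refine hnd (Module.finrank F U) ?_ (by omega) (dvd_of_free f hit U hinv (fun u hu => hdis u (hU hu)))
    exact Nat.one_le_iff_ne_zero.mpr (fun h => hne (Submodule.finrank_eq_zero.mp h))
  set V1 := LinearMap.range f1 with hV1
  set V0 := LinearMap.ker f1 with hV0
  have hV1ne : V1 ≠ ⊥ := fun h => hf1 (sub_eq_zero.mp (LinearMap.range_eq_bot.mp h))
  have hV1inv : ∀ u ∈ V1, f u ∈ V1 := by
    rintro _ ⟨w, rfl⟩
    exact ⟨f w, by rw [hd, hd, map_sub]⟩
  have hgV1 : ∀ u ∈ V1, g u ∈ V1 := by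
    rintro _ ⟨w, rfl⟩
    exact ⟨g w, by rw [hd, hd, map_sub, hcomm]⟩
  have hd1 := hfree V1 le_rfl hV1inv hV1ne
  have hsum : Module.finrank F V1 + Module.finrank F V0 = n := by
    rw [hV1, hV0, LinearMap.finrank_range_add_finrank_ker, hn]
  obtain ⟨N, hN⟩ := hg
  have hnil : ∀ v, (⇑g)^[N] v = 0 := fun v => by rw [← Module.End.pow_apply, hN]; rfl
  have hker : ∀ u ∈ V1, g u = 0 := by
    by_contra hne
    push Not at hne
    obtain ⟨u, hu, hgu⟩ := hne
    let gr : V1 →ₗ[F] V := g.domRestrict V1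
    have hK : (LinearMap.ker gr).map V1.subtype ≠ ⊥ := by
      intro hbot
      have hinj : ∀ v ∈ V1, g v = 0 → v = 0 := fun v hv hgv => by
        have : v ∈ (LinearMap.ker gr).map V1.subtype := ⟨⟨v, hv⟩, hgv, rfl⟩
        rwa [hbot, Submodule.mem_bot] at this
      have hall : ∀ k, ∀ v ∈ V1, (⇑g)^[k] v = 0 → v = 0 := by
        intro k
        induction k with
        | zero => intro v _ h; exact h
        | succ k ih =>
          intro v hv h
          rw [Function.iterate_succ_apply] at h
          exact hinj v hv (ih _ (hgV1 v hv) h)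
      exact hgu (by rw [hall N u hu (hnil u), map_zero])
    have h1 := hfree _ (Submodule.map_subtype_le _ _) (by
      rintro _ ⟨⟨v, hv⟩, hgv, rfl⟩
      refine ⟨⟨f v, hV1inv v hv⟩, ?_, rfl⟩
      show g (f v) = 0
      rw [hcomm, show g v = 0 from hgv, map_zero]) hK
    have h2 := hfree (LinearMap.range gr) (by rintro _ ⟨⟨v, hv⟩, rfl⟩; exact hgV1 v hv) (by
      rintro _ ⟨⟨v, hv⟩, rfl⟩
      exact ⟨⟨f v, hV1inv v hv⟩, hcomm v⟩) (fun h => hgu (by
        have : g u ∈ LinearMap.range gr := ⟨⟨u, hu⟩, rfl⟩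
        rwa [h, Submodule.mem_bot] at this))
    rw [Submodule.finrank_map_subtype_eq] at h1
    have h4 := gr.finrank_range_add_finrank_ker
    omega
  have hgV0 : ∀ v ∈ V0, g v ∈ V0 := by
    intro v hv
    rw [hV0, LinearMap.mem_ker, hd, sub_eq_zero] at hv ⊢
    rw [← hcomm, hv]
  have hV0z : ∀ v ∈ V0, g v = 0 := by
    intro v hv
    by_contra hgv
    have hv0 : (⟨v, hv⟩ : V0) ≠ 0 := fun h => hgv (by
      rw [show v = 0 from congrArg Subtype.val h, map_zero])
    have h0 : 0 < Module.finrank F V0 := Module.finrank_pos_iff_exists_ne_zero.mpr ⟨_, hv0⟩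
    obtain ⟨c, hc⟩ := exists_smul_eq_of_finrank_eq_one (show Module.finrank F V0 = 1 by omega) hv0
      (⟨g v, hgV0 v hv⟩ : V0)
    have hc' : g v = c • v := (congrArg Subtype.val hc).symm
    have hk : ∀ k : ℕ, (⇑g)^[k] v = c ^ k • v := by
      intro k
      induction k with
      | zero => simp
      | succ k ih => rw [Function.iterate_succ_apply', ih, map_smul, hc', smul_smul, pow_succ]
    have h := hnil v
    rw [hk, smul_eq_zero] at h
    rcases h with h | h
    · exact hgv (by rw [hc', pow_eq_zero_iff'.mp h |>.1, zero_smul])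
    · exact hgv (by rw [h, map_zero])
  refine LinearMap.ker_eq_top.mp (top_le_iff.mp ?_)
  have hcod : V1 ⊔ V0 = ⊤ := by
    refine Submodule.eq_top_of_finrank_eq ?_
    have h := Submodule.finrank_sup_add_finrank_inf_eq V1 V0
    have hbot : V1 ⊓ V0 = ⊥ := by
      rw [Submodule.eq_bot_iff]
      rintro v ⟨h1, h0⟩
      exact hdis v h1 (sub_eq_zero.mp (LinearMap.mem_ker.mp h0))
    rw [hbot, finrank_bot, add_zero, hsum] at h
    rw [h, hn]
  rw [← hcod, sup_le_iff]
  exact ⟨fun v hv => hker v hv, fun v hv => hV0z v hv⟩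

end CfsgLib.PSLnCommute
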